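import Cfsg.Agent.H29.TF.OmTwo
import Cfsg.Agent.H265.TF.Two
import Cfsg.Agent.H611.QF.RowB
import Cfsg.Agent.H610.TF.DegL

/-!
# `3.Fi24'`: the elements `s t`, `s` of order 3, `t` a commuting 2-element (helper29, for S2491, S2492)

* `into` : `s` not of class `3A`, `t ≠ 1`: `|C(s t)| ≤ 13063680` or `s t` is conjugate into `N(AA) = 2^11 . M24`;
* `good3` : all lifts of `s t` are commutators.
-/

set_option autoImplicit false
set_option maxRecDepth 100000

namespace Cfsg.Agent.H29.TF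

open Cfsg Subgroup
open Cfsg.Agent.H611.QF (Cls)
open Cfsg.Agent.H98.Ex2.FiTwoB (C mem_C exists_conj)
open Cfsg.Agent.KFacts.FiTF.Defs (z)
open Cfsg.Agent.Fischer.Fi24RepDef Cfsg.Agent.Fischer.Fi24Rep
open Cfsg.Agent.Lib.PermNetPt
open Cfsg.Agent.H827.CocoD (d conj_d)
open Cfsg.Agent.H827.Coco (AA mem_normalizer_of)
open Cfsg.Agent.Schreier.FiBasic (lab chkP rho_of_chkP)
open Cfsg.Agent.SporadicA.GolayBase

/-! ### `ω` and `z` normalise `AA` -/

/-- `ω` on the 24 labels -/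
def prO (n : ℕ) : ℕ := ([0, 2, 3, 1, 5, 6, 4, 7, 21, 9, 10, 18, 12, 17, 19, 11, 13, 16, 15, 20, 14, 22, 8, 23] : List ℕ).getD n 0

def labI (n : ℕ) : ℕ := ([23, 0, 1, 2, 3, 5, 17, 14, 4, 11, 19, 20, 10, 6, 8, 9, 21, 7, 15, 18, 12, 22, 16, 13] : List ℕ).getD n 0

def fO (p : GolayPt) : GolayPt := pt (labI (prO (lab p)))

def tO : Equiv.Perm GolayPt where
  toFun := fO
  invFun p := fO (fO p)
  left_inv := by decide +kernel
  right_inv := by decide +kernel

theorem lab_tO (p : GolayPt) : lab (tO p) = prO (lab p) := by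
  revert p
  decide +kernel

theorem lab_lt' (p : GolayPt) : lab p < 24 := by
  revert p
  decide +kernel

def rowsO : List (ℕ × ℕ) := (List.range 24).map fun n => (n, prO n)

def rowsI : List (ℕ × ℕ) := (List.range 24).map fun n => (n, n)

theorem chk_rowsO : chkP (nw wo false) rowsO = true := by decide +kernel

theorem chk_rowsI : chkP (nw Cfsg.Agent.KFacts.FiTF.Tet.wz false) rowsI = true := by decide +kernel

theorem rho_ome' : ∀ a ∈ rowsO, rho (word wo) a.1 = a.2 := rho_of_chkP chk_rowsO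

theorem ome_word : ome = word wo := rfl

theorem mem_rowsO {n : ℕ} (hn : n < 24) : (n, prO n) ∈ rowsO := List.mem_map.2 ⟨n, List.mem_range.2 hn, rfl⟩

theorem rho_wo {n : ℕ} (hn : n < 24) : rho (word wo) n = prO n := by
  have h := rho_ome' (n, prO n) (mem_rowsO hn)
  dsimp only at h
  exact h

theorem rho_ome (p : GolayPt) : rho ome (lab p) = lab (tO p) := by
  rw [ome_word, lab_tO]
  exact rho_wo (lab_lt' p)

theorem rho_z' (p : GolayPt) : rho z (lab p) = lab ((1 : Equiv.Perm GolayPt) p) := by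
  have h := rho_of_chkP (u := Cfsg.Agent.KFacts.FiTF.Tet.wz) chk_rowsI (lab p, lab p)
    (List.mem_map.2 ⟨lab p, List.mem_range.2 (lab_lt' p), rfl⟩)
  rw [Cfsg.Agent.KFacts.FiTF.Tet.word_wz] at h
  dsimp only at h
  exact h

/-- `ω` in `Fi24'` -/
noncomputable def oK : Spor.Fi24' := ⟨ome, (mem_C.1 ome_mem).1⟩

/-- `z` in `Fi24'` -/
noncomputable def zK : Spor.Fi24' := ⟨z, (mem_C.1 (Cfsg.Agent.H98.Ex2.FiTwoB.sit.RC Cfsg.Agent.H98.Ex2.FiTwoB.sit.zR)).1⟩

theorem oK_mem : oK ∈ normalizer (AA : Set Spor.Fi24') := mem_normalizer_of (m := tO) fun p => conj_d (rho_ome p)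

theorem zK_mem : zK ∈ normalizer (AA : Set Spor.Fi24') := mem_normalizer_of (m := 1) fun p => conj_d (rho_z' p)

/-! ### The parts of `s t` -/

theorem comm_parts {G : Type*} [Group G] {s t g : G} {n : ℕ} (hs : orderOf s = 3) (ht : t ^ 2 ^ n = 1)
    (hst : Commute s t) (hg : Commute g (s * t)) : Commute g s ∧ Commute g t := by
  have hco : Nat.Coprime (2 ^ n) (orderOf s) := by
    rw [hs]
    exact Nat.Coprime.pow_left _ (by norm_num)
  obtain ⟨m, hm⟩ := exists_pow_eq_self_of_coprime hco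
  have h1 : Commute g (s ^ 2 ^ n) := by
    have h2 := hg.pow_right (2 ^ n)
    rwa [hst.mul_pow, ht, mul_one] at h2
  have h2 : Commute g s := by
    have h3 := h1.pow_right m
    rwa [hm] at h3
  refine ⟨h2, ?_⟩
  have h3 := h2.inv_right.mul_right hg
  rwa [inv_mul_cancel_left] at h3

/-- **the dichotomy** -/
theorem into {s t : Spor.Fi24'} {n : ℕ} (hs : orderOf s = 3) (h0 : ¬ Cls 0 s) (ht : t ^ 2 ^ n = 1) (ht1 : t ≠ 1)
    (hst : Commute s t) : Nat.card ↥(centralizer ({s * t} : Set Spor.Fi24')) ≤ 13063680 ∨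
      ∃ g : Spor.Fi24', g * (s * t) * g⁻¹ ∈ normalizer (AA : Set Spor.Fi24') := by
  have hfin : Finite Spor.Fi24 := Cfsg.Agent.R08.FiTwentyFour.finite_Fi24
  -- the involution
  obtain ⟨m, -, hm⟩ := (Nat.dvd_prime_pow Nat.prime_two).1 (orderOf_dvd_of_pow_eq_one ht)
  have hm0 : m ≠ 0 := by
    rintro rfl
    rw [pow_zero, orderOf_eq_one_iff] at hm
    exact ht1 hm
  obtain ⟨m, rfl⟩ : ∃ k, m = k + 1 := ⟨m - 1, by omega⟩
  set v := t ^ 2 ^ m with hv
  have hv2 : v * v = 1 := by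
    rw [hv, ← pow_add, ← two_mul, ← pow_succ', ← hm, pow_orderOf_eq_one]
  have hv1 : v ≠ 1 := by
    intro h
    have h1 := orderOf_dvd_of_pow_eq_one h
    rw [hm] at h1
    have h2 := Nat.le_of_dvd (by positivity) h1
    rw [pow_succ] at h2
    have := Nat.two_pow_pos m
    omega
  have hsv : Commute s v := hst.pow_right _
  have hcv : ∀ g : Spor.Fi24', g * (s * t) = s * t * g → Commute g s ∧ Commute g t ∧ Commute g v := by
    intro g hg
    obtain ⟨h1, h2⟩ := comm_parts hs ht hst hg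
    exact ⟨h1, h2, h2.pow_right _⟩
  rcases Cfsg.Agent.R08.TetFi24C.facts.invol (v : Spor.Fi24) v.2 (congrArg Subtype.val hv2)
    (fun h => hv1 (Subtype.ext h)) with ⟨a, ha, b, hb, hab, hc, he⟩ | ⟨a, b, c, e, hT⟩
  · left
    have h1 := two_a ha hb hab hc he hs hsv.symm h0
    refine le_trans (Subgroup.card_le_of_le (K := centralizer ({v} : Set Spor.Fi24') ⊓ centralizer ({s} : Set Spor.Fi24'))
      ?_) (h1.trans (by norm_num))
    intro g hg
    obtain ⟨h2, -, h3⟩ := hcv g (mem_centralizer_singleton_iff.1 hg)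
    exact ⟨mem_centralizer_singleton_iff.2 h3.eq, mem_centralizer_singleton_iff.2 h2.eq⟩
  · obtain ⟨g, hg, hgt, -⟩ := exists_conj hT
    have hN : ∀ k : Spor.Fi24', g * (k : Spor.Fi24) * g⁻¹ ∈ commutator Spor.Fi24 := fun k =>
      Subgroup.mul_mem _ (Subgroup.mul_mem _ hg k.2) (Subgroup.inv_mem _ hg)
    have hcz : ∀ k : Spor.Fi24', Commute k v → g * (k : Spor.Fi24) * g⁻¹ ∈ C := by
      intro k hk
      refine mem_C.2 ⟨hN k, ?_⟩
      have hk' : (k : Spor.Fi24) * v = v * k := congrArg Subtype.val hk.eq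
      rw [← hgt]
      calc g * (k : Spor.Fi24) * g⁻¹ * (g * v * g⁻¹) = g * ((k : Spor.Fi24) * v) * g⁻¹ := by group
        _ = g * v * g⁻¹ * (g * (k : Spor.Fi24) * g⁻¹) := by rw [hk']; group
    have hcc : ∀ k l : Spor.Fi24', Commute k l →
        (g * (k : Spor.Fi24) * g⁻¹) * (g * (l : Spor.Fi24) * g⁻¹) = (g * (l : Spor.Fi24) * g⁻¹) * (g * (k : Spor.Fi24) * g⁻¹) := by
      intro k l hkl
      have hk' : (k : Spor.Fi24) * l = l * k := congrArg Subtype.val hkl.eq
      calc (g * (k : Spor.Fi24) * g⁻¹) * (g * (l : Spor.Fi24) * g⁻¹) = g * ((k : Spor.Fi24) * l) * g⁻¹ := by group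
        _ = _ := by rw [hk']; group
    have hs3 : (s : Spor.Fi24) ^ 3 = 1 := by
      have h1 : s ^ 3 = 1 := by rw [← hs, pow_orderOf_eq_one]
      exact congrArg Subtype.val h1
    have hs1 : (s : Spor.Fi24) ≠ 1 := by
      intro h
      have h1 : s = 1 := Subtype.ext h
      rw [h1, orderOf_one] at hs
      omega
    have ht3 : (t : Spor.Fi24) ^ 2 ^ n = 1 := congrArg Subtype.val ht
    have ht1' : (t : Spor.Fi24) ≠ 1 := fun h => ht1 (Subtype.ext h)
    have htv : Commute t v := (Commute.refl t).pow_right _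
    rcases core (hcz s hsv) (hcz t htv) (hcc s t hst) (by rw [conj_pow, hs3]; group)
      (fun h => hs1 (conj_eq_one_iff.1 h)) (n := n) (by rw [conj_pow, ht3]; group)
      (fun h => ht1' (conj_eq_one_iff.1 h)) with h1 | ⟨hTz, k, hk, h1⟩
    · left
      refine le_trans ?_ h1
      refine Nat.card_le_card_of_injective (fun k : ↥(centralizer ({s * t} : Set Spor.Fi24')) =>
        (⟨g * ((k : Spor.Fi24') : Spor.Fi24) * g⁻¹, ⟨hcz _ (hcv _ (mem_centralizer_singleton_iff.1 k.2)).2.2, ?_⟩, ?_⟩ :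
          ↥(C ⊓ centralizer ({g * (s : Spor.Fi24) * g⁻¹} : Set Spor.Fi24) ⊓
            centralizer ({g * (t : Spor.Fi24) * g⁻¹} : Set Spor.Fi24)))) ?_
      · exact mem_centralizer_singleton_iff.2 (hcc _ _ (hcv _ (mem_centralizer_singleton_iff.1 k.2)).1)
      · exact mem_centralizer_singleton_iff.2 (hcc _ _ (hcv _ (mem_centralizer_singleton_iff.1 k.2)).2.1)
      · intro k k' h
        have h2 : g * ((k : Spor.Fi24') : Spor.Fi24) * g⁻¹ = g * ((k' : Spor.Fi24') : Spor.Fi24) * g⁻¹ := congrArg Subtype.val h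
        exact Subtype.ext (Subtype.ext (mul_left_cancel (mul_right_cancel h2)))
    · right
      have hkz := C_z hk
      have hkm := (mem_C.1 hk).1
      refine ⟨⟨k * g, Subgroup.mul_mem _ hkm hg⟩, ?_⟩
      have h2 : k * z * k⁻¹ = z := by rw [hkz]; group
      have h3 : k * g * ((s : Spor.Fi24) * t) * (k * g)⁻¹ = (k * (g * (s : Spor.Fi24) * g⁻¹) * k⁻¹) * z := by
        calc k * g * ((s : Spor.Fi24) * t) * (k * g)⁻¹
            = (k * (g * (s : Spor.Fi24) * g⁻¹) * k⁻¹) * (k * (g * (t : Spor.Fi24) * g⁻¹) * k⁻¹) := by group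
          _ = _ := by rw [hTz, h2]
      rcases h1 with h1 | h1
      · have h4 : (⟨k * g, Subgroup.mul_mem _ hkm hg⟩ : Spor.Fi24') * (s * t) *
            (⟨k * g, Subgroup.mul_mem _ hkm hg⟩ : Spor.Fi24')⁻¹ = oK * zK := Subtype.ext (by
          show k * g * ((s : Spor.Fi24) * t) * (k * g)⁻¹ = ome * z
          rw [h3, h1])
        rw [h4]
        exact Subgroup.mul_mem _ oK_mem zK_mem
      · have h4 : (⟨k * g, Subgroup.mul_mem _ hkm hg⟩ : Spor.Fi24') * (s * t) *
            (⟨k * g, Subgroup.mul_mem _ hkm hg⟩ : Spor.Fi24')⁻¹ = oK⁻¹ * zK := Subtype.ext (by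
          show k * g * ((s : Spor.Fi24) * t) * (k * g)⁻¹ = ome⁻¹ * z
          rw [h3, h1])
        rw [h4]
        exact Subgroup.mul_mem _ (Subgroup.inv_mem _ oK_mem) zK_mem

open Cfsg.Agent.H51.Mult Cfsg.Agent.H777.Ore Cfsg.Agent.H265.TF Cfsg.Agent.H52.ThreeFi24 in
/-- **all lifts of `s t` are commutators** -/
theorem good3 {s t : Spor.Fi24'} {n : ℕ} (hs : orderOf s = 3) (ht : t ^ 2 ^ n = 1) (hst : Commute s t) :
    Good π3 (s * t) := by
  by_cases h0 : Cls 0 s
  · exact Cfsg.Agent.H611.QF.good_zero h0 ht hst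
  have hs3 : s ^ 3 = 1 := by rw [← hs, pow_orderOf_eq_one]
  by_cases ht1 : t = 1
  · rw [ht1, mul_one]
    exact six hs3
  rcases into hs h0 ht ht1 hst with h | ⟨g, hg⟩
  · exact Cfsg.Agent.H611.QF.good_of_cent' pce.surj pce.cen card_ker_L3 Cfsg.Agent.H611.QF.degK
      Cfsg.Agent.H610.TF.degL (h.trans (by norm_num))
  · exact good_into hs3 ht hst hg

end Cfsg.Agent.H29.TF
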