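import Cfsg.Agent.H29.TF.TwoA

/-!
# `Fi24'`: elements `s t`, `s` of order 3, `t ≠ 1` a commuting 2-element (helper29, for S2491, S2492)

* `few` : a 2-element `t ∉ ⟨z⟩` of `H3 = C(z) ∩ C(ω)` has at least three conjugates in `H3`;
* `core` : `s`, `t` in `C(z)`: `|C(z) ∩ C(s t)| ≤ 13063680`, or `t = z` and `s` is conjugate to `ω ^ {±1}` in `C(z)`.
-/

set_option autoImplicit false
set_option maxRecDepth 100000

namespace Cfsg.Agent.H29.TF

open Cfsg Cfsg.Spor Subgroup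
open Cfsg.Agent.Fischer.Fi24RepDef Cfsg.Agent.Fischer.Fi24Rep
open Cfsg.Agent.KFacts.FiTF Cfsg.Agent.KFacts.FiTF.Defs Cfsg.Agent.KFacts.FiTF.Pts Cfsg.Agent.KFacts.FiTF.Tet
open Cfsg.Agent.KFacts.FiTF.Orb Cfsg.Agent.KFacts.FiTF.Lin
open Cfsg.Agent.KFacts.FiTF.OrbSys
open Cfsg.Agent.KFacts.Codes
open Cfsg.Agent.H98.Ex2 Cfsg.Agent.H98.Ex2.FiTwoB
open Cfsg.Agent.Lib.PermNetOrbit
open Cfsg.Agent.H29.TF.Dat

/-! ### Words fixing the code 1 -/

def S1 (i : ℕ) : List ℕ := ([[3, 6, 13, 5, 8, 1], [5], [2, 3], [4], [2, 4]] : List (List ℕ)).getD i []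

theorem S1_fix : ∀ i < 5, wa (S1 i) 1 = 1 := by decide +kernel

def ckT (c i j : ℕ) : Bool := !(Nat.beq (wa (S1 i) c) c) && (!(Nat.beq (wa (S1 j) c) c) &&
  !(Nat.beq (wa (S1 i) c) (wa (S1 j) c)))

def ckS (c : ℕ) : Bool := !(Om.OM.testBit c) || (Nat.beq c 1 || (Nat.beq c 2 || (Nat.beq c 3 ||
  (List.range 5).any fun i => (List.range 5).any fun j => ckT c i j)))

theorem ckS_aux : ∀ a < 64, ∀ b < 64, ckS (64 * a + b) = true := by decide +kernel

theorem OM_basis : ∀ j < 12, Om.OM.testBit (2 ^ j) = true := by decide +kernel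

theorem om1 : om 1 = 2 ∧ om (om 1) = 3 := by decide +kernel

theorem three {c : ℕ} (hc : c < 4096) (h : Om.OM.testBit c = true) (h1 : c ≠ 1) (h2 : c ≠ 2) (h3 : c ≠ 3) :
    ∃ i < 5, ∃ j < 5, wa (S1 i) c ≠ c ∧ wa (S1 j) c ≠ c ∧ wa (S1 i) c ≠ wa (S1 j) c := by
  have h4 : ckS c = true := of64 (P := fun c => ckS c = true) ckS_aux hc
  unfold ckS at h4
  simp only [h, Bool.not_true, Bool.false_or, Bool.or_eq_true, List.any_eq_true, List.mem_range] at h4
  rcases h4 with h4 | h4 | h4 | ⟨i, hi, j, hj, h4⟩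
  · exact absurd (Nat.eq_of_beq_eq_true h4) h1
  · exact absurd (Nat.eq_of_beq_eq_true h4) h2
  · exact absurd (Nat.eq_of_beq_eq_true h4) h3
  · unfold ckT at h4
    simp only [Bool.and_eq_true, Bool.not_eq_true'] at h4
    exact ⟨i, hi, j, hj, Nat.ne_of_beq_eq_false h4.1, Nat.ne_of_beq_eq_false h4.2.1, Nat.ne_of_beq_eq_false h4.2.2⟩

/-! ### `H3` -/

theorem ome_mem : ome ∈ C := mem_C.2 ⟨Cfsg.Agent.H827.CocoD.word_mem (by decide), ome_z⟩

/-- `C(z) ∩ C(ω)` -/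
def H3 : Subgroup Spor.Fi24 := C ⊓ centralizer ({ome} : Set Spor.Fi24)

theorem H3_C {g : Spor.Fi24} (h : g ∈ H3) : g ∈ C := h.1

theorem H3_ome {g : Spor.Fi24} (h : g ∈ H3) : g * ome = ome * g := mem_centralizer_singleton_iff.1 h.2

theorem card_H3 : Nat.card H3 ≤ 39191040 := by
  have h1 := card_orb C ome
  rw [card_C] at h1
  have h2 : (Finset.range 4096).card ≤ (cls R ome).ncard := by
    refine card_A ome_mem ?_
    intro a ha
    have halt : a < 4096 := Finset.mem_range.1 ha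
    exact ⟨om a, om_lt _, by rw [isOm_ome _ (om_lt _), om2_eq halt, ← Nat.xor_assoc, Nat.xor_self, Nat.zero_xor]⟩
  rw [Finset.card_range] at h2
  have h3 : (cls R ome).ncard ≤ (cls C ome).ncard := by
    refine Set.ncard_le_ncard ?_ (Set.toFinite _)
    rintro _ ⟨g, hg, rfl⟩
    exact ⟨g, sit.RC hg, rfl⟩
  have h6 : {y | ∃ g ∈ C, g * ome * g⁻¹ = y}.ncard = (cls C ome).ncard := rfl
  rw [h6] at h1
  by_contra h7
  push Not at h7
  have h8 : 4096 * 39191041 ≤ (cls C ome).ncard * Nat.card ↥(C ⊓ centralizer ({ome} : Set Spor.Fi24)) :=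
    Nat.mul_le_mul (h2.trans h3) h7
  omega

/-- a scalar is conjugate to `ω` under `R` -/
theorem conj_R {s : Spor.Fi24} (hs : s ∈ C) (h3 : s ^ 3 = 1) (h : IsOm s) : ∃ q ∈ R, q * ome * q⁻¹ = s := by
  have zz := frame.zz
  have hsz := C_z hs
  have hoz := ome_z
  have hr : s * ome⁻¹ ∈ R := by
    refine Cfsg.Agent.KFacts.LargeO2.mem_of_triv (Abs.large frame) (mul_z hsz (inv_z hoz)) ?_
    intro r hr
    have h1 : Ez z r (cod 12 z x (Lin.pi 12 z x r)) := RQ.sys.ez_pi hr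
    set c := Lin.pi 12 z x r with hc
    have hclt : c < 4096 := RQ.sys.dt.pi_lt _
    have h2 := h1.conj (mul_z hsz (inv_z hoz))
    have h4 : ac (s * ome⁻¹) c = c := by
      rw [ac_mul hsz (inv_z hoz)]
      set d := ac ome⁻¹ c with hd
      have hdlt : d < 4096 := ac_lt _ _
      have h5 : ac ome d = c := ac_inv' hoz hclt
      rw [h d hdlt, ← isOm_ome d hdlt, h5]
    have h5 := ac_spec (mul_z hsz (inv_z hoz)) c
    rw [h4] at h5
    have h6 := (h2.trans zz h5).trans zz (h1.symm zz)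
    rcases h6 with h6 | h6
    · exact Or.inl h6
    · right
      rw [h6]
      exact (RQ.R_z hr).symm
  have h1 : Ez z (s * ome⁻¹) (cod 12 z x (Lin.pi 12 z x (s * ome⁻¹))) := RQ.sys.ez_pi hr
  set a := Lin.pi 12 z x (s * ome⁻¹) with ha
  have halt : a < 4096 := RQ.sys.dt.pi_lt _
  have h2 := comm_ez hoz (om a)
  have h4 : om a ^^^ ac ome (om a) = a := by
    rw [isOm_ome _ (om_lt _), om2_eq halt, ← Nat.xor_assoc, Nat.xor_self, Nat.zero_xor]
  rw [h4] at h2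
  have h5 := h2.trans zz (h1.symm zz)
  have hqR : cod 12 z x (om a) ∈ R := cod_mem _
  set q := cod 12 z x (om a) with hq
  rcases h5 with h5 | h5
  · refine ⟨q, hqR, ?_⟩
    calc q * ome * q⁻¹ = (q * ome * q⁻¹ * ome⁻¹) * ome := by group
      _ = s := by rw [h5]; group
  · exfalso
    have h6 : q * ome * q⁻¹ = z * s := by
      calc q * ome * q⁻¹ = (q * ome * q⁻¹ * ome⁻¹) * ome := by group
        _ = z * s := by rw [h5]; group
    have h7 : (z * s) ^ 3 = 1 := by rw [← h6, conj_pow, ome_cube]; group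
    have h8 : (z * s) ^ 3 = z ^ 3 * s ^ 3 := (show Commute z s from hsz.symm).mul_pow 3
    rw [h7, h3, mul_one, pow_succ, pow_two, zz, one_mul] at h8
    exact frame.z1 h8.symm

/-- every element of `E` acts on the codes as an element of `H3` -/
theorem lift_H3 {e : Spor.Fi24} (he : e ∈ E) : ∃ h ∈ H3, ∀ c < 4096, ac h c = ac e c := by
  have hez := E_z he
  have hCm := Cm.E he
  have hcj : e * ome * e⁻¹ ∈ C := C.mul_mem (C.mul_mem (E_C he) ome_mem) (C.inv_mem (E_C he))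
  obtain ⟨q, hq, h1⟩ := conj_R hcj (by rw [conj_pow, ome_cube]; group) (by
    intro c hc
    have h2 : ac e (ac e⁻¹ c) = c := ac_inv' hez hc
    have h3 := ac_conj hez ome_z (ac_lt e⁻¹ c)
    rw [h2] at h3
    rw [h3, isOm_ome _ (ac_lt _ _), hCm.2 _ (ac_lt _ _), h2])
  have hqC : q ∈ C := sit.RC hq
  refine ⟨q⁻¹ * e, ⟨C.mul_mem (C.inv_mem hqC) (E_C he), mem_centralizer_singleton_iff.2 ?_⟩, ?_⟩
  · calc q⁻¹ * e * ome = q⁻¹ * (e * ome * e⁻¹) * e := by group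
      _ = q⁻¹ * (q * ome * q⁻¹) * e := by rw [h1]
      _ = ome * (q⁻¹ * e) := by group
  · intro c _
    rw [ac_mul (inv_z (C_z hqC)) hez, ac_R (R.inv_mem hq) (ac_lt _ _)]

theorem H3_om {h : Spor.Fi24} (hh : h ∈ H3) {c : ℕ} (hc : c < 4096) : ac h (om c) = om (ac h c) := by
  have hz := C_z (H3_C hh)
  rw [← isOm_ome c hc, ← ac_mul hz ome_z, H3_ome hh, ac_mul ome_z hz, isOm_ome _ (ac_lt _ _)]

theorem step1 {t : Spor.Fi24} (ht : t ∈ H3) (hn : (cls H3 t).ncard < 3) : ac t 1 = 1 ∨ ac t 1 = 2 ∨ ac t 1 = 3 := by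
  have htz := C_z (H3_C ht)
  by_contra hcon
  push Not at hcon
  have hOM : Om.OM.testBit (ac t 1) = true := ac_OM htz (OM_basis 0 (by norm_num))
  obtain ⟨i, hi, j, hj, h1, h2, h3⟩ := three (ac_lt _ _) hOM hcon.1 hcon.2.1 hcon.2.2
  have key : ∀ i < 5, ∃ h ∈ H3, ac (h * t * h⁻¹) 1 = wa (S1 i) (ac t 1) := by
    intro i hi
    obtain ⟨h, hh, hh'⟩ := lift_H3 (gwd_E (S1 i))
    have hhz := C_z (H3_C hh)
    refine ⟨h, hh, ?_⟩
    have h4 := ac_conj hhz htz (c := 1) (by norm_num)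
    rw [hh' _ (by norm_num), hh' _ (ac_lt _ _), ac_gwd _ (by norm_num), ac_gwd _ (ac_lt _ _), S1_fix i hi] at h4
    exact h4
  obtain ⟨g, hg, hg'⟩ := key i hi
  obtain ⟨k, hk, hk'⟩ := key j hj
  have h4 : ({t, g * t * g⁻¹, k * t * k⁻¹} : Set Spor.Fi24) ⊆ cls H3 t := by
    rintro y (rfl | rfl | rfl)
    · exact ⟨1, H3.one_mem, by group⟩
    · exact ⟨g, hg, rfl⟩
    · exact ⟨k, hk, rfl⟩
  have h5 : ({t, g * t * g⁻¹, k * t * k⁻¹} : Set Spor.Fi24).ncard = 3 := by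
    rw [Set.ncard_eq_three]
    refine ⟨_, _, _, ?_, ?_, ?_, rfl⟩
    · intro h; apply h1; rw [← hg', ← h]
    · intro h; apply h2; rw [← hk', ← h]
    · intro h; apply h3; rw [← hg', ← hk', h]
  have h6 := Set.ncard_le_ncard h4 (Set.toFinite _)
  omega

theorem cls_H3 {t g : Spor.Fi24} (hg : g ∈ H3) : cls H3 (g * t * g⁻¹) = cls H3 t := by
  ext u
  constructor
  · rintro ⟨k, hk, rfl⟩
    exact ⟨k * g, H3.mul_mem hk hg, by group⟩
  · rintro ⟨k, hk, rfl⟩
    exact ⟨k * g⁻¹, H3.mul_mem hk (H3.inv_mem hg), by group⟩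

theorem step2 {t : Spor.Fi24} (ht : t ∈ H3) (hn : (cls H3 t).ncard < 3) {r : ℕ} (hr : Om.OM.testBit r = true) :
    ac t r = r ∨ ac t r = om r ∨ ac t r = om (om r) := by
  obtain ⟨hrlt, e, he, her⟩ := reach (by norm_num) orb1 r hr
  obtain ⟨h, hh, hh'⟩ := lift_H3 he
  have hhz := C_z (H3_C hh)
  have h1r : ac h 1 = r := by rw [hh' 1 (by norm_num), her]
  have hhi := H3.inv_mem hh
  have ht' : h⁻¹ * t * h⁻¹⁻¹ ∈ H3 := H3.mul_mem (H3.mul_mem hhi ht) (H3.inv_mem hhi)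
  have htz' := C_z (H3_C ht')
  have h1 := step1 ht' (by rw [cls_H3 hhi]; exact hn)
  have h2 := ac_conj hhz htz' (c := 1) (by norm_num)
  have e2 : h * (h⁻¹ * t * h⁻¹⁻¹) * h⁻¹ = t := by group
  rw [e2, h1r] at h2
  rw [h2]
  rcases h1 with h1 | h1 | h1
  · left; rw [h1, h1r]
  · right; left
    rw [h1, ← om1.1, H3_om hh (by norm_num), h1r]
  · right; right
    rw [h1, ← om1.2, H3_om hh (om_lt _), H3_om hh (by norm_num), h1r]

theorem om_fix {r : ℕ} (hr : r < 4096) (h : om r = r) : r = 0 := by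
  have h1 := om2_eq hr
  rw [h, h, Nat.xor_self] at h1
  exact h1

theorem step3 {t : Spor.Fi24} (ht : t ∈ H3) (hn : (cls H3 t).ncard < 3) {n : ℕ} (htn : t ^ 2 ^ n = 1) {r : ℕ}
    (hr : Om.OM.testBit r = true) : ac t r = r := by
  have htz := C_z (H3_C ht)
  have hrlt : r < 4096 := RQ.om_lt hr
  have h3 : ac (t ^ 3) r = r := by
    have e : t ^ 3 = t * t * t := by simp only [pow_succ, pow_zero, one_mul]
    rw [e, ac_mul (mul_z htz htz) htz, ac_mul htz htz]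
    rcases step2 ht hn hr with h | h | h
    · rw [h, h, h]
    · rw [h, H3_om ht hrlt, h, H3_om ht (om_lt _), H3_om ht hrlt, h, om3 hrlt]
    · rw [h, H3_om ht (om_lt _), H3_om ht hrlt, h, H3_om ht (om_lt _), H3_om ht (om_lt _), H3_om ht (om_lt _),
        H3_om ht hrlt, h, om3 (om_lt _), om3 hrlt]
  have hco : Nat.Coprime 3 (orderOf t) := by
    refine Nat.Coprime.coprime_dvd_right (orderOf_dvd_of_pow_eq_one htn) ?_
    exact Nat.Coprime.pow_right _ (by norm_num)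
  obtain ⟨m, hm⟩ := exists_pow_eq_self_of_coprime hco
  have h3z : t ^ 3 * z = z * t ^ 3 := ((show Commute t z from htz).pow_left 3).eq
  have key : ∀ m : ℕ, ac ((t ^ 3) ^ m) r = r := by
    intro m
    induction m with
    | zero => rw [pow_zero, ac_one hrlt]
    | succ m ih =>
      rw [pow_succ, ac_mul ((show Commute (t ^ 3) z from h3z).pow_left m).eq h3z, h3, ih]
  rw [← hm]
  exact key m

/-- **at least three conjugates** -/
theorem few {t : Spor.Fi24} (ht : t ∈ H3) {n : ℕ} (htn : t ^ 2 ^ n = 1) (h1 : t ≠ 1) (hz : t ≠ z) :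
    3 ≤ (cls H3 t).ncard := by
  by_contra hn
  push Not at hn
  have zz := frame.zz
  have htz := C_z (H3_C ht)
  have hall : ∀ c < 4096, ac t c = c := by
    intro c hc
    exact add_ext' (f := ac t) (g := fun c => c) (ac_xor htz) (fun _ _ => rfl)
      (fun j hj => step3 ht hn htn (OM_basis j hj)) hc
  have htR : t ∈ R := by
    refine Cfsg.Agent.KFacts.LargeO2.mem_of_triv (Abs.large frame) htz ?_
    intro r hr
    have h1 : Ez z r (cod 12 z x (Lin.pi 12 z x r)) := RQ.sys.ez_pi hr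
    have h2 := h1.conj htz
    have h5 := ac_spec htz (Lin.pi 12 z x r)
    rw [hall _ (RQ.sys.dt.pi_lt _)] at h5
    rcases (h2.trans zz h5).trans zz (h1.symm zz) with h6 | h6
    · exact Or.inl h6
    · right
      rw [h6]
      exact (RQ.R_z hr).symm
  have h2 : Ez z t (cod 12 z x (Lin.pi 12 z x t)) := RQ.sys.ez_pi htR
  have h3 : om (Lin.pi 12 z x t) = Lin.pi 12 z x t := by
    have h4 := (h2.conj ome_z).trans zz (ac_spec ome_z _)
    rw [isOm_ome _ (RQ.sys.dt.pi_lt _)] at h4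
    have e : ome * t * ome⁻¹ = t := by rw [← H3_ome ht]; group
    rw [e] at h4
    exact (RQ.sys.pi_of (om_lt _) h4).symm
  have h4 := om_fix (RQ.sys.dt.pi_lt _) h3
  rw [h4, cod_zero] at h2
  rcases h2 with h2 | h2
  · exact h1 h2
  · exact hz (by rw [h2, mul_one])

theorem bound_few {t : Spor.Fi24} (ht : t ∈ H3) {n : ℕ} (htn : t ^ 2 ^ n = 1) (h1 : t ≠ 1) (hz : t ≠ z) :
    Nat.card ↥(H3 ⊓ centralizer ({t} : Set Spor.Fi24)) ≤ 13063680 := by
  have h2 := card_orb H3 t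
  have h3 := few ht htn h1 hz
  have h4 := card_H3
  have h6 : {y | ∃ g ∈ H3, g * t * g⁻¹ = y}.ncard = (cls H3 t).ncard := rfl
  rw [h6] at h2
  by_contra h7
  push Not at h7
  have h8 : 3 * 13063681 ≤ (cls H3 t).ncard * Nat.card ↥(H3 ⊓ centralizer ({t} : Set Spor.Fi24)) :=
    Nat.mul_le_mul h3 h7
  omega

/-- **the dichotomy in `C(z)`** -/
theorem core {s t : Spor.Fi24} (hs : s ∈ C) (ht : t ∈ C) (hc : s * t = t * s) (h3 : s ^ 3 = 1) (h1 : s ≠ 1) {n : ℕ}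
    (htn : t ^ 2 ^ n = 1) (ht1 : t ≠ 1) :
    Nat.card ↥(C ⊓ centralizer ({s} : Set Spor.Fi24) ⊓ centralizer ({t} : Set Spor.Fi24)) ≤ 13063680 ∨
      (t = z ∧ ∃ k ∈ C, k * s * k⁻¹ = ome ∨ k * s * k⁻¹ = ome⁻¹) := by
  have hfin : Finite Spor.Fi24 := finF
  -- from a conjugation
  have key : ∀ k ∈ C, (k * s * k⁻¹ = ome ∨ k * s * k⁻¹ = ome⁻¹) →
      Nat.card ↥(C ⊓ centralizer ({s} : Set Spor.Fi24) ⊓ centralizer ({t} : Set Spor.Fi24)) ≤ 13063680 ∨
      (t = z ∧ ∃ k ∈ C, k * s * k⁻¹ = ome ∨ k * s * k⁻¹ = ome⁻¹) := by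
    intro k hk hks
    have hcom : ∀ g, g * s = s * g → (k * g * k⁻¹) * ome = ome * (k * g * k⁻¹) := by
      intro g hg
      have h5 : (k * g * k⁻¹) * (k * s * k⁻¹) = (k * s * k⁻¹) * (k * g * k⁻¹) := by
        calc (k * g * k⁻¹) * (k * s * k⁻¹) = k * (g * s) * k⁻¹ := by group
          _ = (k * s * k⁻¹) * (k * g * k⁻¹) := by rw [hg]; group
      rcases hks with h | h
      · rw [h] at h5; exact h5
      · rw [h] at h5
        have h6 : Commute (k * g * k⁻¹) ome⁻¹ := h5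
        exact (Commute.inv_right_iff.1 h6).eq
    by_cases htz : k * t * k⁻¹ = z
    · right
      refine ⟨?_, k, hk, hks⟩
      have hkz := C_z hk
      calc t = k⁻¹ * (k * t * k⁻¹) * k := by group
        _ = k⁻¹ * (z * k) := by rw [htz]; group
        _ = z := by rw [← hkz]; group
    · left
      have hkt : k * t * k⁻¹ ∈ H3 := ⟨C.mul_mem (C.mul_mem hk ht) (C.inv_mem hk),
        mem_centralizer_singleton_iff.2 (hcom t hc.symm)⟩
      have h5 := bound_few hkt (n := n) (by rw [conj_pow, htn]; group) (fun h => ht1 (conj_eq_one_iff.1 h)) htz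
      refine le_trans ?_ h5
      refine Nat.card_le_card_of_injective (fun g : ↥(C ⊓ centralizer ({s} : Set Spor.Fi24) ⊓ centralizer ({t} : Set Spor.Fi24)) =>
        (⟨k * (g : Spor.Fi24) * k⁻¹, ⟨C.mul_mem (C.mul_mem hk g.2.1.1) (C.inv_mem hk), ?_⟩, ?_⟩ :
          ↥(H3 ⊓ centralizer ({k * t * k⁻¹} : Set Spor.Fi24)))) ?_
      · exact mem_centralizer_singleton_iff.2 (hcom _ (mem_centralizer_singleton_iff.1 g.2.1.2))
      · refine mem_centralizer_singleton_iff.2 ?_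
        have h6 := mem_centralizer_singleton_iff.1 g.2.2
        calc k * (g : Spor.Fi24) * k⁻¹ * (k * t * k⁻¹) = k * ((g : Spor.Fi24) * t) * k⁻¹ := by group
          _ = k * t * k⁻¹ * (k * (g : Spor.Fi24) * k⁻¹) := by rw [h6]; group
      · intro g g' h
        have h6 : k * (g : Spor.Fi24) * k⁻¹ = k * (g' : Spor.Fi24) * k⁻¹ := congrArg Subtype.val h
        exact Subtype.ext (mul_left_cancel (mul_right_cancel h6))
  rcases many hs h3 h1 with h5 | ⟨g, hg, h5 | h5⟩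
  · left
    have h4 := card_orb C s
    rw [card_C] at h4
    have h6 : {y | ∃ g ∈ C, g * s * g⁻¹ = y}.ncard = (cls C s).ncard := rfl
    rw [h6] at h4
    have h9 : Nat.card ↥(C ⊓ centralizer ({s} : Set Spor.Fi24)) ≤ 10077696 := by
      by_contra h7
      push Not at h7
      have h8 : 15929 * 10077697 ≤ (cls C s).ncard * Nat.card ↥(C ⊓ centralizer ({s} : Set Spor.Fi24)) :=
        Nat.mul_le_mul h5 h7
      omega
    have h10 := Subgroup.card_le_of_le (H := C ⊓ centralizer ({s} : Set Spor.Fi24) ⊓ centralizer ({t} : Set Spor.Fi24))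
      (K := C ⊓ centralizer ({s} : Set Spor.Fi24)) inf_le_left
    omega
  · obtain ⟨q, hq, hqs⟩ := conj_R (C.mul_mem (C.mul_mem hg hs) (C.inv_mem hg)) (by rw [conj_pow, h3]; group) h5
    refine key (q⁻¹ * g) (C.mul_mem (C.inv_mem (sit.RC hq)) hg) (Or.inl ?_)
    calc q⁻¹ * g * s * (q⁻¹ * g)⁻¹ = q⁻¹ * (g * s * g⁻¹) * q := by group
      _ = ome := by rw [← hqs]; group
  · obtain ⟨q, hq, hqs⟩ := conj_R (C.mul_mem (C.mul_mem hg (C.inv_mem hs)) (C.inv_mem hg))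
      (by rw [conj_pow, inv_pow, h3]; group) h5
    refine key (q⁻¹ * g) (C.mul_mem (C.inv_mem (sit.RC hq)) hg) (Or.inr ?_)
    calc q⁻¹ * g * s * (q⁻¹ * g)⁻¹ = (q⁻¹ * (g * s⁻¹ * g⁻¹) * q)⁻¹ := by group
      _ = ome⁻¹ := by rw [← hqs]; group

end Cfsg.Agent.H29.TF
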