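import Cfsg.Agent.H29.TF.TwoB
import Cfsg.Agent.H611.QF.Frame

/-!
# `Fi24'`: the elements of order 3 acting as a scalar `ω` on `R/⟨z⟩` are of class `3C` (helper29)

`two_b` : `|C(t) ∩ C(s)| ≤ 10077696` for `t` of class `2B` and a commuting `s` of order 3 not of class `3C`.
-/

set_option autoImplicit false
set_option maxRecDepth 100000

namespace Cfsg.Agent.H29.TF

open Cfsg Cfsg.Spor Subgroup
open Cfsg.Agent.Lib.PermNet Cfsg.Agent.Lib.PermNetPt Cfsg.Agent.Fischer.Fi24RepDef Cfsg.Agent.Fischer.Fi24Rep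
open Cfsg.Agent.Fischer.Fi24Spider (word_append word_cons word_nil)
open Cfsg.Agent.KFacts.FiTF Cfsg.Agent.KFacts.FiTF.Defs Cfsg.Agent.KFacts.FiTF.Pts Cfsg.Agent.KFacts.FiTF.Tet
open Cfsg.Agent.KFacts.FiTF.Orb Cfsg.Agent.KFacts.FiTF.Lin
open Cfsg.Agent.KFacts.FiTF.OrbSys
open Cfsg.Agent.KFacts.Codes
open Cfsg.Agent.H98.Ex2 Cfsg.Agent.H98.Ex2.FiTwoB
open Cfsg.Agent.LThreeFi24.FiveConj (eqB eq_of_eqB word_w)
open Cfsg.Agent.H29.TF.Dat
open Cfsg.Spor.Fi24 (Gen)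

def wq : List Gen := [.d, .f, .e, .d, .c, .b, .h, .d, .c, .h, .i, .d, .h, .f, .e, .d, .h, .i, .f, .e, .d, .h, .g, .f, .c, .d, .e,
  .a, .b, .c, .d, .h, .i, .g, .f, .d, .e, .c, .d, .h, .j, .g, .f, .e, .d, .c, .b, .a, .l, .c, .d, .h, .e, .f,
  .g, .j, .c, .d, .e, .f, .i, .c, .d, .h, .e, .d, .c, .b, .k, .a, .l, .k, .e, .d, .c, .b, .a, .l, .d, .h, .i,
  .e, .d, .h, .c, .d, .e, .b, .c, .b, .d]

def w3 : List Gen := [.l, .k, .b, .c]

/-- the word of `ω` -/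
def wo : List Gen := wq ++ w3 ++ wq.reverse

/-- `ω` on the members of a tetrad -/
def sg (i : ℕ) : ℕ := [0, 2, 3, 1].getD i 0

theorem chk_o : ∀ t < 6, ∀ i < 4, chkPt (nw wo false) (P t i) (P t (sg i)) = true := by decide +kernel

theorem chk_3 : eqB (w3 ++ w3 ++ w3) [] = true := by decide +kernel

/-- the element `ω` -/
def ome : Spor.Fi24 := word wo

theorem ome_eq : ome = word wq * word w3 * (word wq)⁻¹ := word_w

theorem w3_cube : word w3 ^ 3 = 1 := by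
  have h := eq_of_eqB chk_3
  rw [word_append, word_append, word_nil] at h
  rw [pow_succ, pow_two]
  exact h

theorem ome_cube : ome ^ 3 = 1 := by rw [ome_eq, conj_pow, w3_cube]; group

theorem sg_lt : ∀ i < 4, sg i < 4 := by decide

theorem ome_D {t i : ℕ} (ht : t < 6) (hi : i < 4) : ome * D t i * ome⁻¹ = D t (sg i) :=
  (isPt ht hi).conj_eq (isPt ht (sg_lt i hi)) (rho_of_chkPt (chk_o t ht i hi))

theorem ome_z : ome * z = z * ome := by
  rw [← mul_inv_eq_iff_eq_mul]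
  conv_lhs => rw [← prod0]
  have e : ome * (D 0 0 * D 0 1 * D 0 2 * D 0 3) * ome⁻¹ = (ome * D 0 0 * ome⁻¹) * (ome * D 0 1 * ome⁻¹) *
      (ome * D 0 2 * ome⁻¹) * (ome * D 0 3 * ome⁻¹) := by group
  rw [e, ome_D (by norm_num) (by norm_num), ome_D (by norm_num) (by norm_num), ome_D (by norm_num) (by norm_num),
    ome_D (by norm_num) (by norm_num)]
  show D 0 0 * D 0 2 * D 0 3 * D 0 1 = z
  have c1 := D_comm (t := 0) (i := 3) (k := 1) (by norm_num) (by norm_num) (by norm_num)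
  have c2 := D_comm (t := 0) (i := 2) (k := 1) (by norm_num) (by norm_num) (by norm_num)
  rw [← prod0]
  calc D 0 0 * D 0 2 * D 0 3 * D 0 1 = D 0 0 * D 0 2 * (D 0 3 * D 0 1) := by group
    _ = D 0 0 * (D 0 2 * D 0 1) * D 0 3 := by rw [c1]; group
    _ = D 0 0 * D 0 1 * D 0 2 * D 0 3 := by rw [c2]; group

theorem ome_pair {t i : ℕ} (ht : t < 6) (hi : i < 4) : ome * (D t 0 * D t i) * ome⁻¹ = D t 0 * D t (sg i) := by
  have e : ome * (D t 0 * D t i) * ome⁻¹ = (ome * D t 0 * ome⁻¹) * (ome * D t i * ome⁻¹) := by group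
  rw [e, ome_D ht hi, ome_D ht (by norm_num)]
  rfl

theorem ac_ome_even {t : ℕ} (ht : t < 6) : ac ome (2 ^ (2 * t)) = 2 ^ (2 * t + 1) := by
  have h1 : (2 : ℕ) ^ (2 * t + 1) < 4096 := lt_of_lt_of_le
    (Nat.pow_lt_pow_right (by norm_num) (show 2 * t + 1 < 12 by omega)) (by norm_num)
  refine ac_eq h1 (Or.inl ?_)
  rw [cod_pow (by omega), cod_pow (by omega), x_even, x_odd, ome_pair ht (by norm_num)]
  rfl

theorem ac_ome_odd {t : ℕ} (ht : t < 6) : ac ome (2 ^ (2 * t + 1)) = 3 * 2 ^ (2 * t) := by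
  have h0 : (2 : ℕ) ^ (2 * t) ≤ 1024 := (Nat.pow_le_pow_right (by norm_num) (show 2 * t ≤ 10 by omega)).trans (by norm_num)
  have h1 : 3 * (2 : ℕ) ^ (2 * t) < 4096 := by omega
  refine ac_eq h1 ?_
  rw [cod_pow (by omega), x_odd, ome_pair ht (by norm_num)]
  have h2 := cod_pc ht 3 (by norm_num)
  have h3 : pc t 3 = 4096 + 3 * 2 ^ (2 * t) := rfl
  have h4 := ez_mod (n := 12) (z := z) (x := x) (pc t 3)
  have h5 : pc t 3 % 2 ^ 12 = 3 * 2 ^ (2 * t) := by rw [h3]; omega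
  rw [h5, h2] at h4
  exact h4

theorem om_pows : ∀ t < 6, om (2 ^ (2 * t)) = 2 ^ (2 * t + 1) ∧ om (2 ^ (2 * t + 1)) = 3 * 2 ^ (2 * t) := by
  decide +kernel

theorem isOm_ome : IsOm ome := by
  intro c hc
  refine add_ext' (f := ac ome) (g := om) (ac_xor ome_z) om_xor ?_ hc
  intro j hj
  rcases Nat.even_or_odd' j with ⟨t, rfl | rfl⟩
  · rw [ac_ome_even (by omega), (om_pows t (by omega)).1]
  · rw [ac_ome_odd (by omega), (om_pows t (by omega)).2]

/-- **a scalar is conjugate to `ω`** -/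
theorem conj_ome {s : Spor.Fi24} (hs : s ∈ C) (h3 : s ^ 3 = 1) (h : IsOm s) : ∃ q : Spor.Fi24, q * ome * q⁻¹ = s := by
  have zz := frame.zz
  have hsz := C_z hs
  have hoz := ome_z
  have hfinR : Finite R := inferInstance
  have hr : s * ome⁻¹ ∈ R := by
    refine Cfsg.Agent.KFacts.LargeO2.mem_of_triv (Abs.large frame) (mul_z hsz (inv_z hoz)) ?_
    intro r hr
    have h1 : Ez z r (cod 12 z x (Lin.pi 12 z x r)) := RQ.sys.ez_pi hr
    set c := Lin.pi 12 z x r with hc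
    have hclt : c < 4096 := RQ.sys.dt.pi_lt _
    have h2 := h1.conj (mul_z hsz (inv_z hoz))
    have h4 : ac (s * ome⁻¹) c = c := by
      rw [ac_mul hsz (inv_z hoz)]
      set d := ac ome⁻¹ c with hd
      have hdlt : d < 4096 := ac_lt _ _
      have h5 : ac ome d = c := ac_inv' hoz hclt
      rw [h d hdlt, ← isOm_ome d hdlt, h5]
    have h5 := ac_spec (mul_z hsz (inv_z hoz)) c
    rw [h4] at h5
    have h6 := (h2.trans zz h5).trans zz (h1.symm zz)
    rcases h6 with h6 | h6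
    · exact Or.inl h6
    · right
      rw [h6]
      exact (RQ.R_z hr).symm
  have h1 : Ez z (s * ome⁻¹) (cod 12 z x (Lin.pi 12 z x (s * ome⁻¹))) := RQ.sys.ez_pi hr
  set a := Lin.pi 12 z x (s * ome⁻¹) with ha
  have halt : a < 4096 := RQ.sys.dt.pi_lt _
  have h2 := comm_ez hoz (om a)
  have h4 : om a ^^^ ac ome (om a) = a := by
    rw [isOm_ome _ (om_lt _), om2_eq halt, ← Nat.xor_assoc, Nat.xor_self, Nat.zero_xor]
  rw [h4] at h2
  have h5 := h2.trans zz (h1.symm zz)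
  set q := cod 12 z x (om a) with hq
  rcases h5 with h5 | h5
  · refine ⟨q, ?_⟩
    calc q * ome * q⁻¹ = (q * ome * q⁻¹ * ome⁻¹) * ome := by group
      _ = s := by rw [h5]; group
  · exfalso
    have h6 : q * ome * q⁻¹ = z * s := by
      calc q * ome * q⁻¹ = (q * ome * q⁻¹ * ome⁻¹) * ome := by group
        _ = z * s := by rw [h5]; group
    have h7 : (z * s) ^ 3 = 1 := by rw [← h6, conj_pow, ome_cube]; group
    have h8 : (z * s) ^ 3 = z ^ 3 * s ^ 3 := (show Commute z s from hsz.symm).mul_pow 3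
    rw [h7, h3, mul_one, pow_succ, pow_two, zz, one_mul] at h8
    exact frame.z1 h8.symm

theorem conj_w3 {s : Spor.Fi24} (hs : s ∈ C) (h3 : s ^ 3 = 1) (h : IsOm s) : ∃ q : Spor.Fi24, q * s * q⁻¹ = word w3 := by
  obtain ⟨q, hq⟩ := conj_ome hs h3 h
  refine ⟨(word wq)⁻¹ * q⁻¹, ?_⟩
  rw [← hq, ome_eq]
  group

/-- **the bound in `Fi24`** -/
theorem bound2' {s : Spor.Fi24} (hs : s ∈ C) (h3 : s ^ 3 = 1) (h1 : s ≠ 1)
    (hn : ∀ y : Spor.Fi24, y * s * y⁻¹ ≠ word w3 ∧ y * s * y⁻¹ ≠ (word w3)⁻¹) :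
    Nat.card ↥(C ⊓ centralizer ({s} : Set Spor.Fi24)) ≤ 10077696 := by
  have h4 := card_orb C s
  rw [card_C] at h4
  have h6 : {y | ∃ g ∈ C, g * s * g⁻¹ = y}.ncard = (cls C s).ncard := rfl
  rw [h6] at h4
  rcases many hs h3 h1 with h5 | ⟨g, hg, h5 | h5⟩
  · by_contra h7
    push Not at h7
    have h8 : 15929 * 10077697 ≤ (cls C s).ncard * Nat.card ↥(C ⊓ centralizer ({s} : Set Spor.Fi24)) :=
      Nat.mul_le_mul h5 h7
    omega
  · exfalso
    obtain ⟨q, hq⟩ := conj_w3 (C.mul_mem (C.mul_mem hg hs) (C.inv_mem hg)) (by rw [conj_pow, h3]; group) h5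
    refine (hn (q * g)).1 ?_
    rw [← hq]; group
  · exfalso
    obtain ⟨q, hq⟩ := conj_w3 (C.mul_mem (C.mul_mem hg (C.inv_mem hs)) (C.inv_mem hg))
      (by rw [conj_pow, inv_pow, h3]; group) h5
    refine (hn (q * g)).2 ?_
    rw [← hq]; group

open Cfsg.Agent.H611.QF (Cls) in
/-- **(2B)** -/
theorem two_b {t s : Spor.Fi24'} {a b c d : Spor.Fi24}
    (hT : R08.TetTwo.IsTet R08.FiTwentyFour.L (t : Spor.Fi24) a b c d) (hs : orderOf s = 3) (hts : Commute t s)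
    (hn : ¬ Cls 1 s) :
    Nat.card ↥(centralizer ({t} : Set Spor.Fi24') ⊓ centralizer ({s} : Set Spor.Fi24')) ≤ 10077696 := by
  have hfin : Finite Spor.Fi24 := Cfsg.Agent.R08.FiTwentyFour.finite_Fi24
  obtain ⟨g, hg, hgt, -⟩ := exists_conj hT
  have hs3 : (s : Spor.Fi24) ^ 3 = 1 := by
    have h1 : s ^ 3 = 1 := by rw [← hs, pow_orderOf_eq_one]
    exact congrArg Subtype.val h1
  have hs1 : (s : Spor.Fi24) ≠ 1 := by
    intro h
    have h1 : s = 1 := Subtype.ext h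
    rw [h1, orderOf_one] at hs
    omega
  have hN : ∀ k : Spor.Fi24', g * (k : Spor.Fi24) * g⁻¹ ∈ commutator Spor.Fi24 := fun k =>
    Subgroup.mul_mem _ (Subgroup.mul_mem _ hg k.2) (Subgroup.inv_mem _ hg)
  have hcz : ∀ k : Spor.Fi24', k * t = t * k → g * (k : Spor.Fi24) * g⁻¹ ∈ C := by
    intro k hk
    refine mem_C.2 ⟨hN k, ?_⟩
    have hk' : (k : Spor.Fi24) * t = t * k := congrArg Subtype.val hk
    rw [← hgt]
    calc g * (k : Spor.Fi24) * g⁻¹ * (g * t * g⁻¹) = g * ((k : Spor.Fi24) * t) * g⁻¹ := by group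
      _ = g * t * g⁻¹ * (g * (k : Spor.Fi24) * g⁻¹) := by rw [hk']; group
  have h1 : Nat.card ↥(C ⊓ centralizer ({g * (s : Spor.Fi24) * g⁻¹} : Set Spor.Fi24)) ≤ 10077696 := by
    refine bound2' (hcz s hts.symm.eq) ?_ ?_ ?_
    · rw [conj_pow, hs3]; group
    · intro h
      exact hs1 (conj_eq_one_iff.1 h)
    · intro y
      refine ⟨fun h => hn ⟨y * g, Or.inl ?_⟩, fun h => hn ⟨y * g, Or.inr ?_⟩⟩
      · show _ = word w3
        rw [← h]; group
      · show _ = (word w3)⁻¹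
        rw [← h]; group
  refine le_trans ?_ h1
  refine Nat.card_le_card_of_injective (fun k : ↥(centralizer ({t} : Set Spor.Fi24') ⊓ centralizer ({s} : Set Spor.Fi24')) =>
    (⟨g * ((k : Spor.Fi24') : Spor.Fi24) * g⁻¹, hcz _ (mem_centralizer_singleton_iff.1 k.2.1), ?_⟩ :
      ↥(C ⊓ centralizer ({g * (s : Spor.Fi24) * g⁻¹} : Set Spor.Fi24)))) ?_
  · refine mem_centralizer_singleton_iff.2 ?_
    have hk := congrArg (Subtype.val) (mem_centralizer_singleton_iff.1 k.2.2)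
    have hk' : ((k : Spor.Fi24') : Spor.Fi24) * s = s * ((k : Spor.Fi24') : Spor.Fi24) := hk
    calc g * ((k : Spor.Fi24') : Spor.Fi24) * g⁻¹ * (g * (s : Spor.Fi24) * g⁻¹) = g * (((k : Spor.Fi24') : Spor.Fi24) * s) * g⁻¹ := by group
      _ = g * (s : Spor.Fi24) * g⁻¹ * (g * ((k : Spor.Fi24') : Spor.Fi24) * g⁻¹) := by rw [hk']; group
  · intro k k' h
    have h2 : g * ((k : Spor.Fi24') : Spor.Fi24) * g⁻¹ = g * ((k' : Spor.Fi24') : Spor.Fi24) * g⁻¹ := congrArg Subtype.val h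
    exact Subtype.ext (Subtype.ext (mul_left_cancel (mul_right_cancel h2)))

end Cfsg.Agent.H29.TF
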