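import Cfsg.Agent.H29.TF.Omega
import Cfsg.Agent.H868.Ore.Fi24A
import Cfsg.Agent.R08.TetFi24C
import Cfsg.Agent.LThreeFi24.Row24
import Cfsg.Agent.LThreeFi24.Base24

/-!
# `Fi24'`: `|C(z) ∩ C(s)|` for an involution `z` and `s` of order 3 not of class `3A`, `3C` (helper29)

* `fi22` : `s ∈ Fi22` of order 3 is a product of two transpositions or `|C(s)| ≤ 2519424`;
* `two_a` : `|C(z) ∩ C(s)| ≤ 10077696` for `z` of class `2A` and `s` not of class `3A`;
* `r5` : the same for all involutions `z` and `s` not of class `3A`, `3C`.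
-/

set_option autoImplicit false

namespace Cfsg.Agent.H29.TF

open Cfsg Subgroup Cfsg.Agent.R08
open Cfsg.Agent.LThreeFi22 Cfsg.Agent.H836 Cfsg.Agent.R01.FiFusion Cfsg.Agent.R01.FiFacts
open Cfsg.Agent.KFacts.FiTT (TK)
open Cfsg.Agent.H835.ClsThree
open Cfsg.Agent.H759.Ore.Fi22Cent (width_map card_cent_of_conj card_of_width_four card_of_free exists_central card_of_central)

universe v

variable {K : Type v} [Group K]

/-- the elements of order 3 of `Fi22` -/
theorem refined (e : K ≃* Spor.Fi22) {s : K} (hs : orderOf s = 3) :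
    Nat.card ↥(centralizer ({s} : Set K)) ≤ 2519424 ∨
      ∃ x g : K, Is3A (TK e) x ∧ (zpowers s).map (MulAut.conj g).toMonoidHom = zpowers x := by
  have I := inv_of_iso e
  have C := I.ctx
  have hfin := C.finite
  obtain ⟨Y, hY, hYinj, hYall, w0, w1, w2, w3⟩ := three_concl e
  have cl : ∀ y : K, orderOf y = 3 → ∃ i, ∃ g : K, (zpowers y).map (MulAut.conj g).toMonoidHom = Y i := fun y hy =>
    hYall _ (by rw [Nat.card_zpowers, hy])
  have wd : ∀ y : K, orderOf y = 3 → ∀ i, ∀ g : K, (zpowers y).map (MulAut.conj g).toMonoidHom = Y i →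
      Cfsg.commutingWidth (TK e ∩ (centralizer ((zpowers y : Subgroup K) : Set K) : Set K)) =
        Cfsg.commutingWidth (TK e ∩ (centralizer ((Y i : Subgroup K) : Set K) : Set K)) := fun y hy i g h =>
    width_map e (by rw [Nat.card_zpowers, hy]) (hY i) h
  have same' : ∀ x y : K, ∀ i, ∀ g k : K, (zpowers x).map (MulAut.conj g).toMonoidHom = Y i →
      (zpowers y).map (MulAut.conj k).toMonoidHom = Y i →
      (zpowers x).map (MulAut.conj (k⁻¹ * g)).toMonoidHom = zpowers y := by
    intro x y i g k h1 h2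
    rw [← H835.HexMain.map_map_conj, h1, ← h2, H835.HexMain.map_map_conj, inv_mul_cancel, map_one]
    exact Subgroup.map_id _
  -- class 0
  have c0 : ∀ y : K, orderOf y = 3 → ∀ g : K, (zpowers y).map (MulAut.conj g).toMonoidHom = Y 0 →
      ∃ x g : K, Is3A (TK e) x ∧ (zpowers y).map (MulAut.conj g).toMonoidHom = zpowers x ∧
        Nat.card ↥(centralizer ({y} : Set K)) = 19595520 := by
    intro y hy g hg
    obtain ⟨a, ha, b, hb, c, hc, hab, -, -⟩ := C.mupos
    obtain ⟨m⟩ := Cfsg.Agent.H834.Bridge.model_of_iso e (D := TK e) rfl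
    have hx0 : Is3A (TK e) (a * b) := ⟨a, ha, b, hb, hab, rfl⟩
    obtain ⟨p3, p1⟩ := pow_3A I hx0
    have ho : orderOf (a * b) = 3 := by
      have := Fact.mk Nat.prime_three
      exact orderOf_eq_prime p3 p1
    obtain ⟨i, k, hk⟩ := cl _ ho
    have h1 := wd _ ho i k hk
    rw [H836.Main.inter_eq, Cfsg.Agent.H835.Kind.width_three m hx0] at h1
    have hi : i = 0 := by
      fin_cases i
      · rfl
      · exfalso
        have h2 : (6 : ℕ) = 4 := h1.trans w1
        omega
      · exfalso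
        have h2 : (6 : ℕ) = 3 := h1.trans w2
        omega
      · exfalso
        have h2 : (6 : ℕ) = 0 := h1.trans w3
        omega
    rw [hi] at hk
    refine ⟨a * b, k⁻¹ * g, hx0, same' y (a * b) 0 g k hg hk, ?_⟩
    rw [card_cent_of_conj (same' y (a * b) 0 g k hg hk)]
    exact C.card_three ha hb hab
  have c1 : ∀ y : K, orderOf y = 3 → ∀ g : K, (zpowers y).map (MulAut.conj g).toMonoidHom = Y 1 →
      Nat.card ↥(centralizer ({y} : Set K)) ∣ 279936 := fun y hy g hg =>
    card_of_width_four e hy ((wd y hy 1 g hg).trans w1)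
  have c3 : ∀ y : K, orderOf y = 3 → ∀ g : K, (zpowers y).map (MulAut.conj g).toMonoidHom = Y 3 →
      Nat.card ↥(centralizer ({y} : Set K)) = 17496 := by
    intro y hy g hg
    apply card_of_free e hy
    intro t ht hyt
    have h1 := (wd y hy 3 g hg).trans w3
    rw [H836.Main.inter_eq] at h1
    have h2 := Cfsg.Agent.H834.le_commutingWidth (D := Fx (TK e) y) (E := {t}) (by
      rintro _ rfl
      exact ⟨ht, hyt⟩) (by
      rintro a rfl b hb
      have hb' : b = a := hb
      rw [hb'])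
    rw [Set.ncard_singleton, h1] at h2
    omega
  obtain ⟨z, hz, hz9⟩ := exists_central C.card
  have c2 : ∀ y : K, orderOf y = 3 → ∀ g : K, (zpowers y).map (MulAut.conj g).toMonoidHom = Y 2 →
      Nat.card ↥(centralizer ({y} : Set K)) = Nat.card ↥(centralizer ({z} : Set K)) := by
    intro y hy g hg
    obtain ⟨i, k, hk⟩ := cl _ hz
    have hi : i = 2 := by
      fin_cases i
      · exfalso
        obtain ⟨-, -, -, -, h1⟩ := c0 z hz k hk
        rw [h1] at hz9
        revert hz9
        norm_num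
      · exfalso
        have h1 := hz9.trans (c1 z hz k hk)
        revert h1
        norm_num
      · rfl
      · exfalso
        have h1 := c3 z hz k hk
        rw [h1] at hz9
        revert hz9
        norm_num
    rw [hi] at hk
    exact card_cent_of_conj (same' y z 2 g k hg hk)
  obtain ⟨i, g, hg⟩ := cl s hs
  fin_cases i
  · obtain ⟨x, k, h1, h2, -⟩ := c0 s hs g hg
    exact Or.inr ⟨x, k, h1, h2⟩
  · exact Or.inl ((Nat.le_of_dvd (by norm_num) (c1 s hs g hg)).trans (by norm_num))
  · left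
    have h1 := c2 s hs g hg
    rw [h1]
    exact (Nat.le_of_dvd (by norm_num) (card_of_central e hz hz9)).trans (by norm_num)
  · left
    have h1 := c3 s hs g hg
    rw [h1]
    norm_num

theorem conj_T {t : Spor.Fi22} (ht : t ∈ Cfsg.Agent.R01.Fi22Facts.T) (g : Spor.Fi22) :
    g * t * g⁻¹ ∈ Cfsg.Agent.R01.Fi22Facts.T := by
  have h1 : IsConj t (g * t * g⁻¹) := isConj_iff.2 ⟨g, rfl⟩
  exact IsConj.trans ht h1

theorem sq_T {t : Spor.Fi22} (ht : t ∈ Cfsg.Agent.R01.Fi22Facts.T) : t * t = 1 := by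
  have h1 := Cfsg.Agent.R01.Fi22Facts.isThreeTranspositionClass_T.1.1 t ht
  rw [← pow_two, ← h1]
  exact pow_orderOf_eq_one t

/-- **an element of order 3 of `Fi22`** -/
theorem fi22 {s : Spor.Fi22} (hs : orderOf s = 3) : Nat.card ↥(centralizer ({s} : Set Spor.Fi22)) ≤ 2519424 ∨
    ∃ a ∈ Cfsg.Agent.R01.Fi22Facts.T, ∃ b ∈ Cfsg.Agent.R01.Fi22Facts.T, s = a * b := by
  rcases refined (MulEquiv.refl Spor.Fi22) hs with h | ⟨x, g, ⟨a, ha, b, hb, -, rfl⟩, h⟩
  · exact Or.inl h
  right
  have hT : ∀ t ∈ TK (MulEquiv.refl Spor.Fi22), t ∈ Cfsg.Agent.R01.Fi22Facts.T := by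
    rintro _ ⟨u, hu, rfl⟩
    exact hu
  have ha := hT a ha
  have hb := hT b hb
  have hs1 : g * s * g⁻¹ ∈ zpowers (a * b) := by
    rw [← h]
    exact ⟨s, mem_zpowers s, rfl⟩
  have hab : (a * b) ^ 3 = 1 := by
    have h1 : Nat.card ↥(zpowers (a * b)) = 3 := by
      rw [← h, Subgroup.card_map_of_injective (MulAut.conj g).injective, Nat.card_zpowers, hs]
    rw [Nat.card_zpowers] at h1
    rw [← h1]; exact pow_orderOf_eq_one _
  have qa : a * a = 1 := sq_T ha
  have qb : b * b = 1 := sq_T hb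
  have hs2 : g * s * g⁻¹ = 1 ∨ g * s * g⁻¹ = a * b ∨ g * s * g⁻¹ = b * a := by
    obtain ⟨k, hk⟩ := hs1
    have hk' : (a * b) ^ k = g * s * g⁻¹ := hk
    have h1 : (a * b) ^ k = (a * b) ^ (k % 3) := by
      conv_lhs => rw [← Int.emod_add_mul_ediv k 3, zpow_add, zpow_mul]
      rw [show ((a * b) ^ (3 : ℤ)) = 1 from by exact_mod_cast hab, one_zpow, mul_one]
    rw [← hk', h1]
    have h2 : k % 3 = 0 ∨ k % 3 = 1 ∨ k % 3 = 2 := by omega
    rcases h2 with h2 | h2 | h2
    · left; rw [h2, zpow_zero]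
    · right; left; rw [h2, zpow_one]
    · right; right
      rw [h2]
      have h3 : (a * b) ^ (2 : ℤ) * (a * b) = b * a * (a * b) := by
        have e1 : (a * b) ^ (2 : ℤ) * (a * b) = (a * b) ^ 3 := by
          rw [pow_succ]
          rfl
        rw [e1, hab]
        calc (1 : Spor.Fi22) = b * (1 : Spor.Fi22) * b := by rw [mul_one, qb]
          _ = b * a * (a * b) := by rw [← qa]; group
      exact mul_right_cancel h3
  rcases hs2 with h1 | h1 | h1
  · exfalso
    rw [conj_eq_one_iff] at h1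
    rw [h1, orderOf_one] at hs
    omega
  · refine ⟨g⁻¹ * a * g⁻¹⁻¹, conj_T ha _, g⁻¹ * b * g⁻¹⁻¹, conj_T hb _, ?_⟩
    calc s = g⁻¹ * (g * s * g⁻¹) * g := by group
      _ = _ := by rw [h1]; group
  · refine ⟨g⁻¹ * b * g⁻¹⁻¹, conj_T hb _, g⁻¹ * a * g⁻¹⁻¹, conj_T ha _, ?_⟩
    calc s = g⁻¹ * (g * s * g⁻¹) * g := by group
      _ = _ := by rw [h1]; group

/-! ### The class `2A` -/

open Cfsg.Agent.R08.FiTwentyFour (L)
open Cfsg.Agent.H868.Ore.Fi24A (perm comm_of_three)
open Cfsg.Agent.H611.QF (Cls)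

/-- products of noncommuting transpositions are of class `3A` -/
theorem cls0 {s : Spor.Fi24'} {c d : Spor.Fi24} (hc : c ∈ L) (hd : d ∈ L) (hn : ¬ Commute c d)
    (h : (s : Spor.Fi24) = c * d) : Cls 0 s := by
  obtain ⟨g, h1, h2⟩ := Cfsg.Agent.LThreeFi24.Base24.noncomm_trans hc hd
    (Cfsg.Agent.R08.FiTwentyFour.gen_mem_L .l) (Cfsg.Agent.R08.FiTwentyFour.gen_mem_L .k) hn
    Cfsg.Agent.LThreeFi24.Main24.not_comm_lk
  refine ⟨g, Or.inl ?_⟩
  have h3 : g * (s : Spor.Fi24) * g⁻¹ = (g * c * g⁻¹) * (g * d * g⁻¹) := by rw [h]; group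
  exact h3.trans (congrArg₂ (fun x y => x * y) h1 h2)

/-- **the bound for `2A`** -/
theorem two_a {z s : Spor.Fi24'} {a b : Spor.Fi24} (ha : a ∈ L) (hb : b ∈ L) (hne : a ≠ b) (hab : Commute a b)
    (hz : (z : Spor.Fi24) = a * b) (hs : orderOf s = 3) (hzs : Commute z s) (hn : ¬ Cls 0 s) :
    Nat.card (centralizer ({z} : Set Spor.Fi24') ⊓ centralizer ({s} : Set Spor.Fi24') : Subgroup Spor.Fi24') ≤
      10077696 := by
  classical
  have hfin : Finite Spor.Fi24' := H755.CC.FiTF.finite_G
  have hfin2 : Finite Spor.Fi22 := H868.Ore.Fi23A.finite_fi22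
  set D : Subgroup Spor.Fi24' := centralizer {z} ⊓ centralizer {s} with hD
  have hDz : ∀ g : Spor.Fi24', g ∈ D → Commute (g : Spor.Fi24) (a * b) := by
    intro g hg
    rw [← hz]
    exact congrArg Subtype.val (mem_centralizer_singleton_iff.1 hg.1)
  have hDs : ∀ g : Spor.Fi24', g ∈ D → Commute (g : Spor.Fi24) s := fun g hg =>
    congrArg Subtype.val (mem_centralizer_singleton_iff.1 hg.2)
  have hs3' : s ^ 3 = 1 := by rw [← hs, pow_orderOf_eq_one]
  have hs3 : (s : Spor.Fi24) ^ 3 = 1 := congrArg Subtype.val hs3'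
  have hsab := comm_of_three ha hb hne hab hs3 (by rw [← hz]; exact (congrArg Subtype.val hzs.eq).symm)
  let H : Subgroup D :=
    { carrier := {g | Commute ((g : Spor.Fi24') : Spor.Fi24) a}
      one_mem' := Commute.one_left a
      mul_mem' := fun {x y} hx hy => Commute.mul_left hx hy
      inv_mem' := fun {x} hx => Commute.inv_left hx }
  have hDH : Nat.card D ≤ 2 * Nat.card H := by
    by_cases hex : ∃ g0 : D, g0 ∉ H
    · obtain ⟨g0, hg0⟩ := hex
      have h1 : ∀ g : D, g ∉ H → (g : Spor.Fi24) * a * (g : Spor.Fi24)⁻¹ = b := fun g hg =>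
        (perm ha hb hne hab (hDz g g.2)).resolve_left fun h => hg (mul_inv_eq_iff_eq_mul.1 h)
      have h2 : ∀ g : D, g ∉ H → g0⁻¹ * g ∈ H := by
        intro g hg
        have h3 := h1 g hg
        have h4 := h1 g0 hg0
        show ((g0⁻¹ * g : D) : Spor.Fi24) * a = a * ((g0⁻¹ * g : D) : Spor.Fi24)
        have h5 : ((g0⁻¹ * g : D) : Spor.Fi24) = (g0 : Spor.Fi24)⁻¹ * g := rfl
        rw [h5]
        calc (g0 : Spor.Fi24)⁻¹ * g * a = (g0 : Spor.Fi24)⁻¹ * ((g : Spor.Fi24) * a * (g : Spor.Fi24)⁻¹) * g := by group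
          _ = (g0 : Spor.Fi24)⁻¹ * ((g0 : Spor.Fi24) * a * (g0 : Spor.Fi24)⁻¹) * g := by rw [h3, h4]
          _ = a * ((g0 : Spor.Fi24)⁻¹ * g) := by group
      let f : D → H ⊕ H := fun g => if hg : g ∈ H then Sum.inl ⟨g, hg⟩ else Sum.inr ⟨g0⁻¹ * g, h2 g hg⟩
      have hf : Function.Injective f := by
        intro x y hxy
        by_cases hx : x ∈ H
        · by_cases hy : y ∈ H
          · simp only [f, hx, hy, dif_pos, Sum.inl.injEq, Subtype.mk.injEq] at hxy
            exact hxy
          · simp only [f, hx, hy, dif_pos, dif_neg, not_false_eq_true, reduceCtorEq] at hxy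
        · by_cases hy : y ∈ H
          · simp only [f, hx, hy, dif_pos, dif_neg, not_false_eq_true, reduceCtorEq] at hxy
          · simp only [f, hx, hy, dif_neg, not_false_eq_true, Sum.inr.injEq, Subtype.mk.injEq, mul_right_inj] at hxy
            exact hxy
      have h3 := Nat.card_le_card_of_injective f hf
      rw [Nat.card_sum] at h3
      omega
    · push Not at hex
      have h1 : H = ⊤ := (Subgroup.eq_top_iff' H).2 hex
      rw [h1, Subgroup.card_top]
      omega
  obtain ⟨π, -, hker, -, hT, -⟩ := FiTwentyFour.loc ha hb hne hab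
  have hmem : ∀ g : D, g ∈ H → ((g : Spor.Fi24') : Spor.Fi24) ∈ commutator Spor.Fi24 ⊓ centralizer {a, b} := by
    intro g hg
    have hga : Commute ((g : Spor.Fi24') : Spor.Fi24) a := hg
    have hgz := hDz g g.2
    have hgb : Commute ((g : Spor.Fi24') : Spor.Fi24) b := by
      have h1 : a * ((g : Spor.Fi24) * b) = a * (b * g) := by
        calc a * ((g : Spor.Fi24) * b) = g * (a * b) := by rw [← mul_assoc, ← hga.eq, mul_assoc]
          _ = a * b * g := hgz.eq
          _ = a * (b * g) := mul_assoc _ _ _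
      exact mul_left_cancel h1
    refine ⟨(g : Spor.Fi24').2, mem_centralizer_iff.2 ?_⟩
    rintro w (rfl | rfl)
    · exact hga.eq.symm
    · exact hgb.eq.symm
  let K : Subgroup Spor.Fi24 := commutator Spor.Fi24 ⊓ centralizer {a, b}
  have hsK : (s : Spor.Fi24) ∈ K := ⟨s.2, mem_centralizer_iff.2 (by
    rintro w (rfl | rfl)
    · exact hsab.1.eq.symm
    · exact hsab.2.eq.symm)⟩
  let s' : K := ⟨s, hsK⟩
  have hfinK : Finite K := by
    have h1 : K ≤ commutator Spor.Fi24 := inf_le_left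
    exact Finite.of_injective (Subgroup.inclusion h1) (Subgroup.inclusion_injective h1)
  have hzK : (z : Spor.Fi24) ∈ K := ⟨z.2, by
    rw [hz]
    refine mem_centralizer_iff.2 ?_
    rintro w (rfl | rfl)
    · exact ((Commute.refl w).mul_right hab).eq
    · exact (hab.symm.mul_right (Commute.refl w)).eq⟩
  let z' : K := ⟨z, hzK⟩
  have hker' : ∀ c : K, π c = 1 → c = 1 ∨ c = z' := by
    intro c hc
    rcases (hker c).1 hc with h | h
    · exact Or.inl (Subtype.ext h)
    · exact Or.inr (Subtype.ext (h.trans hz.symm))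
  have qa := FiTwentyFour.sq ha
  have qb := FiTwentyFour.sq hb
  have hzz0 : (z : Spor.Fi24) * z = 1 := by
    rw [hz]
    calc a * b * (a * b) = a * (b * a) * b := by group
      _ = a * (a * b) * b := by rw [hab.eq]
      _ = (a * a) * (b * b) := by group
      _ = 1 := by rw [qa, qb, one_mul]
  have hzz : z' * z' = 1 := Subtype.ext hzz0
  have hs' : orderOf s' = 3 := by
    rw [Subgroup.orderOf_mk, ← hs]
    exact orderOf_coe s
  have hH : Nat.card H ≤ Nat.card (centralizer ({s'} : Set K)) := by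
    refine Nat.card_le_card_of_injective (fun g => ⟨⟨((g : D) : Spor.Fi24'), hmem g g.2⟩, ?_⟩) ?_
    · exact mem_centralizer_singleton_iff.2 (Subtype.ext (hDs g (g : D).2).eq)
    · intro x y hxy
      exact Subtype.ext (Subtype.ext (Subtype.ext
        (congrArg (fun t : centralizer ({s'} : Set K) => ((t : K) : Spor.Fi24)) hxy)))
  have h2 := H868.Ore.Fi23A.card_le_of_ker π hker' s'
  rcases fi22 (H868.Ore.Fi23A.orderOf_three π hzz hker' hs') with h3 | ⟨t1, ht1, t2, ht2, h3⟩
  · have h4 : Nat.card H ≤ 2 * 2519424 := (hH.trans h2).trans (Nat.mul_le_mul_left 2 h3)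
    omega
  · exfalso
    obtain ⟨c, hc, -, -, hca, hcb, x1, hx1, hπ1⟩ := hT t1 ht1
    obtain ⟨d, hd, -, -, hda, hdb, x2, hx2, hπ2⟩ := hT t2 ht2
    have h4 : π (s' * (x1 * x2)⁻¹) = 1 := by
      rw [map_mul, map_inv, map_mul, hπ1, hπ2, h3, mul_inv_cancel]
    have h5 : ((x1 * x2 : K) : Spor.Fi24) = c * d := by
      show (x1 : Spor.Fi24) * (x2 : Spor.Fi24) = c * d
      rw [hx1, hx2]
      calc a * c * (a * d) = a * (c * a) * d := by group
        _ = (a * a) * (c * d) := by rw [hca.eq]; group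
        _ = c * d := by rw [qa, one_mul]
    have qc := FiTwentyFour.sq hc
    have qd := FiTwentyFour.sq hd
    have hcomm : Commute (z : Spor.Fi24) (c * d) := by
      rw [hz]
      exact ((hca.symm.mul_left hcb.symm).mul_right (hda.symm.mul_left hdb.symm))
    have hsne : (s : Spor.Fi24) ≠ 1 := by
      intro h
      have h1 : s = 1 := Subtype.ext h
      rw [h1, orderOf_one] at hs
      omega
    have hzne : (z : Spor.Fi24) ≠ 1 := by
      rw [hz]
      intro h
      apply hne
      calc a = a * b * b := by rw [mul_assoc, qb, mul_one]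
        _ = b := by rw [h, one_mul]
    have h6 : (s : Spor.Fi24) = c * d ∨ (s : Spor.Fi24) = z * (c * d) := by
      rcases hker' _ h4 with h | h
      · left
        have h7 : s' = x1 * x2 := mul_inv_eq_one.1 h
        rw [← h5, ← h7]
      · right
        have h7 : s' = z' * (x1 * x2) := mul_inv_eq_iff_eq_mul.1 h
        rw [← h5]
        exact congrArg Subtype.val h7
    -- `c`, `d` do not commute
    have hcd : ¬ Commute c d := by
      intro h
      have h7 : (c * d) * (c * d) = 1 := by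
        calc (c * d) * (c * d) = c * (d * c) * d := by group
          _ = c * (c * d) * d := by rw [h.eq]
          _ = (c * c) * (d * d) := by group
          _ = 1 := by rw [qc, qd, one_mul]
      have h8 : (s : Spor.Fi24) * s = 1 := by
        rcases h6 with h6 | h6
        · rw [h6, h7]
        · rw [h6]
          calc (z : Spor.Fi24) * (c * d) * (z * (c * d)) = z * ((c * d) * z) * (c * d) := by group
            _ = z * (z * (c * d)) * (c * d) := by rw [hcomm.eq]
            _ = (z * z) * ((c * d) * (c * d)) := by group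
            _ = 1 := by rw [hzz0, h7, one_mul]
      apply hsne
      have h9 : (s : Spor.Fi24) = s ^ 3 := by rw [pow_succ, pow_two, h8, one_mul]
      rw [h9, hs3]
    have hcd3 : (c * d) ^ 3 = 1 := by
      rcases FiTwentyFour.three hc hd with h | h
      · exact absurd h hcd
      · calc (c * d) ^ 3 = (c * d * c) * (d * c * d) := by simp only [pow_succ, pow_zero, one_mul]; group
          _ = (d * c * d) * (d * c * d) := by rw [h]
          _ = d * (c * (d * d) * c) * d := by group
          _ = 1 := by rw [qd, mul_one, qc, mul_one, qd]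
    rcases h6 with h6 | h6
    · exact hn (cls0 hc hd hcd h6)
    · apply hzne
      have h7 : (s : Spor.Fi24) ^ 3 = (z : Spor.Fi24) ^ 3 * (c * d) ^ 3 := by rw [h6, hcomm.mul_pow]
      rw [hs3, hcd3, mul_one, pow_succ, pow_two, hzz0, one_mul] at h7
      exact h7.symm

/-- **R5** -/
theorem r5 (z s : Spor.Fi24') (hz1 : z ≠ 1) (hz2 : z * z = 1) (hs : orderOf s = 3) (hzs : Commute z s)
    (h0 : ¬ Cls 0 s) (h1 : ¬ Cls 1 s) :
    Nat.card (centralizer ({z} : Set Spor.Fi24') ⊓ centralizer ({s} : Set Spor.Fi24') : Subgroup Spor.Fi24') ≤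
      10077696 := by
  rcases Cfsg.Agent.R08.TetFi24C.facts.invol (z : Spor.Fi24) z.2 (congrArg Subtype.val hz2)
    (fun h => hz1 (Subtype.ext h)) with ⟨a, ha, b, hb, hab, hc, he⟩ | ⟨a, b, c, d, hT⟩
  · exact two_a ha hb hab hc he hs hzs h0
  · exact two_b hT hs hzs h1

end Cfsg.Agent.H29.TF
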